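import Mathlib.RingTheory.Smooth.Basic
import Mathlib.RingTheory.Smooth.Locus
import Mathlib.RingTheory.MvPolynomial.Ideal
import Mathlib.RingTheory.Ideal.Quotient.PowTransition

namespace Groth.Agent.BBDec52

open MvPolynomial

variable {A B σ : Type*} [CommRing A] [CommRing B] [Algebra A B]

theorem aeval_sub_mem_pow {R : Type*} [CommRing R] [Algebra A R] (e : MvPolynomial σ A →ₐ[A] R)
    (q : MvPolynomial σ A →ₐ[A] R)
    (h1 : ∀ p ∈ idealOfVars σ A, q p ∈ (idealOfVars σ A).map (q : MvPolynomial σ A →+* R))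
    (h : ∀ i, e (X i) - q (X i) ∈ ((idealOfVars σ A).map (q : MvPolynomial σ A →+* R)) ^ 2) :
    ∀ m, ∀ p ∈ idealOfVars σ A ^ m,
      e p - q p ∈ ((idealOfVars σ A).map (q : MvPolynomial σ A →+* R)) ^ (m + 1) := by
  set J := (idealOfVars σ A).map (q : MvPolynomial σ A →+* R) with hJ
  have hX : ∀ i, q (X i) ∈ J := fun i => h1 _ (Ideal.subset_span ⟨i, rfl⟩)
  have h0 : ∀ p, e p - q p ∈ J := by
    intro p
    induction p using MvPolynomial.induction_on with
    | C a => simp [show (C a : MvPolynomial σ A) = algebraMap A _ a from rfl]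
    | add p r hp hr =>
      rw [map_add, map_add, show e p + e r - (q p + q r) = (e p - q p) + (e r - q r) by ring]
      exact add_mem hp hr
    | mul_X p i hp =>
      rw [map_mul, map_mul, show e p * e (X i) - q p * q (X i)
        = (e p - q p) * e (X i) + q p * (e (X i) - q (X i)) by ring]
      exact add_mem (J.mul_mem_right _ hp) (J.mul_mem_left _ (Ideal.pow_le_self two_ne_zero (h i)))
  intro m
  induction m with
  | zero => intro p _; simpa using h0 p
  | succ m ih =>
    intro p hp
    rw [pow_succ'] at hp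
    refine Submodule.mul_induction_on hp (fun a ha b hb => ?_) (fun a b ha hb => ?_)
    · have hqb : q b ∈ J ^ m := by
        rw [hJ, ← Ideal.map_pow]; exact Ideal.mem_map_of_mem _ hb
      have hea : e a - q a ∈ J ^ 2 := by
        induction ha using Submodule.span_induction with
        | mem x hx => obtain ⟨i, rfl⟩ := hx; exact h i
        | zero => simp
        | add x y _ _ hx hy =>
          rw [map_add, map_add, show e x + e y - (q x + q y) = (e x - q x) + (e y - q y) by ring]
          exact add_mem hx hy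
        | smul r x hx' hx =>
          rw [smul_eq_mul, map_mul, map_mul, show e r * e x - q r * q x
            = e r * (e x - q x) + (e r - q r) * q x by ring]
          exact add_mem (Ideal.mul_mem_left _ _ hx)
            (by rw [pow_two]; exact Ideal.mul_mem_mul (h0 r) (h1 _ hx'))
      rw [map_mul, map_mul, show e a * e b - q a * q b
        = (e a - q a) * q b + e a * (e b - q b) by ring]
      refine add_mem ?_ ?_
      · have := Ideal.mul_mem_mul hea hqb
        rw [← pow_add] at this
        rwa [show m + 1 + 1 = 2 + m by omega]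
      · have hea' : e a ∈ J := by
          have := add_mem (h0 a) (h1 a ha)
          simpa using this
        rw [pow_succ' J (m + 1)]
        exact Ideal.mul_mem_mul hea' (ih b hb)
    · rw [map_add, map_add, show e a + e b - (q a + q b) = (e a - q a) + (e b - q b) by ring]
      exact add_mem ha hb

/-- A map from a polynomial ring onto a set of cotangent coordinates is injective when the target is
formally smooth near the section. -/
theorem injective_of_formallySmooth [Fintype σ] (I : Ideal B) (π : B →ₐ[A] A)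
    (hπ : RingHom.ker (π : B →+* A) = I) (f : B) (hf : f - 1 ∈ I)
    [Algebra.FormallySmooth A (Localization.Away f)]
    (c : σ → (I.Cotangent →ₗ[A] A)) (g : MvPolynomial σ A →ₐ[A] B)
    (hg : ∀ i, g (X i) ∈ I) (hc : ∀ i j, c j (I.toCotangent ⟨g (X i), hg i⟩) =
      (Finsupp.single i (1 : A)) j) :
    Function.Injective g := by
  classical
  rw [injective_iff_map_eq_zero]
  intro p hp
  suffices hs : ∀ n, p ∈ idealOfVars σ A ^ n by
    ext d
    have := (mem_pow_idealOfVars_iff' (d.degree + 1) p).mp (hs _) d (by omega)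
    simpa using this
  intro n
  set J := idealOfVars σ A with hJ
  let N := n + 2
  let q : MvPolynomial σ A →ₐ[A] MvPolynomial σ A ⧸ J ^ N := Ideal.Quotient.mkₐ A _
  let q₂ : MvPolynomial σ A →ₐ[A] MvPolynomial σ A ⧸ J ^ 2 := Ideal.Quotient.mkₐ A _
  have hsub : ∀ b : B, b - algebraMap A B (π b) ∈ I := fun b => by
    rw [← hπ, RingHom.mem_ker]; simp
  let δ : B →ₗ[A] I.Cotangent :=
    (I.toCotangent.restrictScalars A) ∘ₗ
      ((LinearMap.id - (Algebra.linearMap A B) ∘ₗ π.toLinearMap).codRestrict (I.restrictScalars A) hsub)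
  have hδ : ∀ b, δ b = I.toCotangent ⟨b - algebraMap A B (π b), hsub b⟩ := fun b => rfl
  let L : B →ₗ[A] MvPolynomial σ A ⧸ J ^ 2 :=
    (Algebra.linearMap A _) ∘ₗ π.toLinearMap +
      ∑ i, ((c i) ∘ₗ δ).smulRight (q₂ (X i))
  have hL : ∀ b, L b = algebraMap A _ (π b) + ∑ i, c i (δ b) • q₂ (X i) := fun b => by
    simp [L, LinearMap.sum_apply]
  have hXX : ∀ i j, q₂ (X i) * q₂ (X j) = 0 := fun i j => by
    rw [← map_mul, Ideal.Quotient.mkₐ_eq_mk, Ideal.Quotient.eq_zero_iff_mem, pow_two]
    exact Ideal.mul_mem_mul (Ideal.subset_span ⟨i, rfl⟩) (Ideal.subset_span ⟨j, rfl⟩)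
  have hδ1 : δ 1 = 0 := by
    rw [hδ, Ideal.toCotangent_eq_zero]; simp
  have hδmul : ∀ a b, δ (a * b) = π a • δ b + π b • δ a := by
    intro a b
    rw [hδ, hδ, hδ, ← LinearMap.map_smul_of_tower, ← LinearMap.map_smul_of_tower, ← map_add,
      Ideal.toCotangent_eq]
    have : a * b - algebraMap A B (π (a * b)) - (π a • (b - algebraMap A B (π b)) +
        π b • (a - algebraMap A B (π a))) =
        (a - algebraMap A B (π a)) * (b - algebraMap A B (π b)) := by
      simp only [map_mul, Algebra.smul_def]; ring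
    simp only [Submodule.coe_add, SetLike.val_smul_of_tower]
    rw [this, pow_two]
    exact Ideal.mul_mem_mul (hsub a) (hsub b)
  let h₂ : B →ₐ[A] MvPolynomial σ A ⧸ J ^ 2 := AlgHom.ofLinearMap L
    (by rw [hL, hδ1]; simp) (fun a b => by
      rw [hL, hL, hL, hδmul]
      have hz : (∑ i, c i (δ a) • q₂ (X i)) * (∑ i, c i (δ b) • q₂ (X i)) = 0 := by
        rw [Finset.sum_mul_sum]
        refine Finset.sum_eq_zero fun i _ => Finset.sum_eq_zero fun j _ => ?_
        rw [smul_mul_smul_comm, hXX, smul_zero]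
      simp only [map_mul, map_add, map_smul, smul_eq_mul, add_smul, ← smul_smul,
        Finset.sum_add_distrib, ← Finset.smul_sum]
      rw [Algebra.smul_def, Algebra.smul_def]
      linear_combination -hz)
  have hh₂ : ∀ b, h₂ b = algebraMap A _ (π b) + ∑ i, c i (δ b) • q₂ (X i) := hL
  have hnil : IsNilpotent (J.map (q₂ : MvPolynomial σ A →+* MvPolynomial σ A ⧸ J ^ 2)) := by
    refine ⟨2, ?_⟩
    rw [← Ideal.map_pow]
    exact Ideal.map_quotient_self _
  have hfu : ∀ y : Submonoid.powers f, IsUnit (h₂ (y : B)) := by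
    rintro ⟨y, m, rfl⟩
    rw [map_pow]
    refine IsUnit.pow m ?_
    have hπf : π f = 1 := by
      have : π (f - 1) = 0 := by rw [← hπ] at hf; exact hf
      rwa [map_sub, map_one, sub_eq_zero] at this
    rw [hh₂, hπf, map_one]
    refine IsNilpotent.isUnit_one_add ⟨2, ?_⟩
    rw [sq (∑ i, c i (δ f) • q₂ (X i)), Finset.sum_mul_sum]
    refine Finset.sum_eq_zero fun i _ => Finset.sum_eq_zero fun j _ => ?_
    rw [smul_mul_smul_comm, hXX, smul_zero]
  let h₂' : Localization.Away f →ₐ[A] MvPolynomial σ A ⧸ J ^ 2 := IsLocalization.liftAlgHom hfu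
  have hle : J ^ N ≤ J ^ 2 := Ideal.pow_le_pow_right (by omega)
  let r : (MvPolynomial σ A ⧸ J ^ N) →ₐ[A] MvPolynomial σ A ⧸ J ^ 2 :=
    Ideal.Quotient.factorₐ A hle
  have hr : ∀ x, r (q x) = q₂ x := fun x => rfl
  have hrs : Function.Surjective r := Ideal.Quotient.factor_surjective hle
  have hker : RingHom.ker (r : (MvPolynomial σ A ⧸ J ^ N) →+* MvPolynomial σ A ⧸ J ^ 2) =
      (J.map (q : MvPolynomial σ A →+* MvPolynomial σ A ⧸ J ^ N)) ^ 2 := by
    rw [← Ideal.map_pow]
    exact Ideal.Quotient.factor_ker hle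
  have hrn : IsNilpotent (RingHom.ker (r : (MvPolynomial σ A ⧸ J ^ N) →+* MvPolynomial σ A ⧸ J ^ 2)) := by
    refine ⟨N, ?_⟩
    rw [hker, ← Ideal.map_pow, ← Ideal.map_pow, Ideal.zero_eq_bot, eq_bot_iff]
    refine le_trans (Ideal.map_mono ?_) (le_of_eq (Ideal.map_quotient_self (J ^ N)))
    rw [← pow_mul]
    exact Ideal.pow_le_pow_right (by omega)
  let h := Algebra.FormallySmooth.liftOfSurjective h₂' r hrs hrn
  let ψ : B →ₐ[A] Localization.Away f := IsScalarTower.toAlgHom A B _
  let e : MvPolynomial σ A →ₐ[A] MvPolynomial σ A ⧸ J ^ N := (h.comp ψ).comp g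
  have he : ∀ i, e (X i) - q (X i) ∈
      (J.map (q : MvPolynomial σ A →+* MvPolynomial σ A ⧸ J ^ N)) ^ 2 := by
    intro i
    rw [← hker, RingHom.mem_ker, map_sub, sub_eq_zero]
    show r (h (ψ (g (X i)))) = r (q (X i))
    rw [hr]
    refine (Algebra.FormallySmooth.liftOfSurjective_apply h₂' r hrs hrn _).trans ?_
    show IsLocalization.liftAlgHom hfu (algebraMap B _ (g (X i))) = _
    rw [IsLocalization.liftAlgHom_apply, IsLocalization.lift_eq]
    show h₂ (g (X i)) = _
    have hπg : π (g (X i)) = 0 := by have := hg i; rw [← hπ] at this; exact this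
    have hδg : δ (g (X i)) = I.toCotangent ⟨g (X i), hg i⟩ := by
      rw [hδ]; congr 1; ext; simp [hπg]
    simp only [hh₂, hπg, map_zero, zero_add, hδg, hc]
    rw [Finset.sum_eq_single i]
    · simp
    · intro j _ hji; simp [Finsupp.single_apply, Ne.symm hji]
    · simp
  have key := aeval_sub_mem_pow e q (fun x hx => Ideal.mem_map_of_mem _ hx) he
  have hm : ∀ m, m ≤ n → p ∈ J ^ m := by
    intro m
    induction m with
    | zero => intro _; simp
    | succ m ih =>
      intro hm
      have h3 := key m p (ih (by omega))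
      rw [show e p = 0 by show h (ψ (g p)) = 0; rw [hp, map_zero, map_zero], zero_sub, neg_mem_iff,
        ← Ideal.map_pow] at h3
      have h4 : p ∈ Ideal.comap (Ideal.Quotient.mk (J ^ N))
          ((J ^ (m + 1)).map (Ideal.Quotient.mk (J ^ N))) := h3
      rw [Ideal.comap_map_of_surjective _ Ideal.Quotient.mk_surjective, ← RingHom.ker_eq_comap_bot,
        Ideal.mk_ker, sup_eq_left.mpr (Ideal.pow_le_pow_right (by omega))] at h4
      exact h4
  exact hm n le_rfl

end Groth.Agent.BBDec52
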